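import Cfsg.Agent.Lib.SmallGroups.MElevenDegrees.Main
import Cfsg.Agent.Lib.SmallGroups.PrimeRational
import Cfsg.Agent.Lib.CharNormal.Galois
import Mathlib

/-!
The irreducible characters of a simple group of order 7920, listed by degree, and their values at
an element of order five.
-/

set_option autoImplicit false

noncomputable section

namespace CfsgLib.MElevenUnique

open Subgroup Cfsg CfsgLib.InvolChar
open scoped ComplexConjugate
attribute [local instance] Classical.propDecidable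

variable {G : Type*} [Group G] [Fintype G] [IsSimpleGroup G]

/-- The degrees. -/
def degTable : Fin 10 → ℕ := ![1, 10, 10, 10, 11, 16, 16, 44, 45, 55]

theorem degTable_eval : degTable 0 = 1 ∧ degTable 1 = 10 ∧ degTable 2 = 10 ∧ degTable 3 = 10 ∧
    degTable 4 = 11 ∧ degTable 5 = 16 ∧ degTable 6 = 16 ∧ degTable 7 = 44 ∧ degTable 8 = 45 ∧
    degTable 9 = 55 := by decide

/-- The irreducible characters listed by degree. -/
structure Frame (G : Type*) [Group G] [Fintype G] where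
  /-- the list -/
  c : Fin 10 → IrrCharacter G
  bij : Function.Bijective c
  deg_c : ∀ i, deg (c i) = degTable i

theorem exists_frame (hG : Nat.card G = 7920) : Nonempty (Frame G) := by
  classical
  obtain ⟨hk, hcount⟩ := CfsgLib.SmallGroups.MElevenDegrees.main hG
  have hfc : ∀ n : ℕ, (Finset.univ.filter fun χ : IrrCharacter G => deg χ = n).card =
      if n = 1 ∨ n = 11 ∨ n = 44 ∨ n = 45 ∨ n = 55 then 1 else if n = 10 then 3
      else if n = 16 then 2 else 0 := by
    intro n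
    rw [← hcount n, Nat.card_eq_fintype_card, Fintype.card_subtype]
    exact congrArg Finset.card (Finset.filter_congr fun χ _ => by
      rw [CfsgLib.SmallGroups.BrauerFew.deg_eq_charDegree χ])
  have one : ∀ n : ℕ, (n = 1 ∨ n = 11 ∨ n = 44 ∨ n = 45 ∨ n = 55) →
      ∃ χ : IrrCharacter G, deg χ = n := by
    intro n hn
    obtain ⟨χ, hχ⟩ := Finset.card_eq_one.mp ((hfc n).trans (if_pos hn))
    exact ⟨χ, (Finset.mem_filter.mp (hχ.symm ▸ Finset.mem_singleton_self χ :
      χ ∈ Finset.univ.filter fun χ : IrrCharacter G => deg χ = n)).2⟩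
  obtain ⟨a1, ha1⟩ := one 1 (Or.inl rfl)
  obtain ⟨a11, ha11⟩ := one 11 (Or.inr (Or.inl rfl))
  obtain ⟨a44, ha44⟩ := one 44 (Or.inr (Or.inr (Or.inl rfl)))
  obtain ⟨a45, ha45⟩ := one 45 (Or.inr (Or.inr (Or.inr (Or.inl rfl))))
  obtain ⟨a55, ha55⟩ := one 55 (Or.inr (Or.inr (Or.inr (Or.inr rfl))))
  obtain ⟨t1, t2, t3, h12, h13, h23, h10⟩ := Finset.card_eq_three.mp ((hfc 10).trans rfl)
  obtain ⟨s1, s2, hs12, h16⟩ := Finset.card_eq_two.mp ((hfc 16).trans rfl)
  have hmem10 : ∀ t ∈ ({t1, t2, t3} : Finset (IrrCharacter G)), deg t = 10 := fun t ht => by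
    rw [← h10] at ht; exact (Finset.mem_filter.mp ht).2
  have hmem16 : ∀ t ∈ ({s1, s2} : Finset (IrrCharacter G)), deg t = 16 := fun t ht => by
    rw [← h16] at ht; exact (Finset.mem_filter.mp ht).2
  have e1 := hmem10 t1 (by simp)
  have e2 := hmem10 t2 (by simp)
  have e3 := hmem10 t3 (by simp)
  have f1 := hmem16 s1 (by simp)
  have f2 := hmem16 s2 (by simp)
  have hdeg : ∀ i, deg (![a1, t1, t2, t3, a11, s1, s2, a44, a45, a55] i) = degTable i := by
    intro i
    fin_cases i <;> simp [degTable, ha1, ha11, ha44, ha45, ha55, e1, e2, e3, f1, f2]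
  refine ⟨⟨![a1, t1, t2, t3, a11, s1, s2, a44, a45, a55], ?_, hdeg⟩⟩
  rw [Fintype.bijective_iff_injective_and_card, Fintype.card_fin, ← Nat.card_eq_fintype_card, hk]
  refine ⟨fun i j h => ?_, rfl⟩
  have h' := congrArg deg h
  rw [hdeg, hdeg] at h'
  fin_cases i <;> fin_cases j <;> first | rfl |
    (exfalso
     first | exact h12 h | exact h12 h.symm | exact h13 h | exact h13 h.symm | exact h23 h |
       exact h23 h.symm | exact hs12 h | exact hs12 h.symm) |
    (simp [degTable] at h')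

namespace Frame

variable (F : Frame G)

omit [IsSimpleGroup G] in
theorem sum_eq {M : Type*} [AddCommMonoid M] (f : IrrCharacter G → M) :
    ∑ χ, f χ = f (F.c 0) + f (F.c 1) + f (F.c 2) + f (F.c 3) + f (F.c 4) + f (F.c 5) + f (F.c 6) +
      f (F.c 7) + f (F.c 8) + f (F.c 9) := by
  rw [← F.bij.sum_comp f, Fin.sum_univ_castSucc, Fin.sum_univ_castSucc, Fin.sum_univ_eight]
  rfl

omit [IsSimpleGroup G] in
theorem eq_of_deg (χ : IrrCharacter G) : ∃ i, F.c i = χ ∧ deg χ = degTable i := by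
  obtain ⟨i, hi⟩ := F.bij.2 χ
  exact ⟨i, hi, hi ▸ F.deg_c i⟩

omit [IsSimpleGroup G] in
/-- A character of one of the degrees occurring once is fixed by every field automorphism. -/
theorem galIrr_single (σ : ℂ ≃+* ℂ) {i : Fin 10} (hi : i = 0 ∨ i = 4 ∨ i = 7 ∨ i = 8 ∨ i = 9) :
    CfsgLib.CharNormal.galIrr σ (F.c i) = F.c i := by
  obtain ⟨j, hj, hd⟩ := F.eq_of_deg (CfsgLib.CharNormal.galIrr σ (F.c i))
  have hd' : deg (CfsgLib.CharNormal.galIrr σ (F.c i)) = degTable i := by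
    have h := deg_spec (CfsgLib.CharNormal.galIrr σ (F.c i))
    rw [CfsgLib.CharNormal.galIrr_apply, deg_spec, map_natCast, F.deg_c i] at h
    exact_mod_cast h.symm
  rw [← hj]
  congr 1
  rw [hd'] at hd
  rcases hi with rfl | rfl | rfl | rfl | rfl <;> fin_cases j <;> first | rfl | simp [degTable] at hd

omit [IsSimpleGroup G] in
/-- The two characters of degree sixteen are permuted. -/
theorem galIrr_pair (σ : ℂ ≃+* ℂ) :
    (CfsgLib.CharNormal.galIrr σ (F.c 5) = F.c 5 ∧ CfsgLib.CharNormal.galIrr σ (F.c 6) = F.c 6) ∨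
      (CfsgLib.CharNormal.galIrr σ (F.c 5) = F.c 6 ∧ CfsgLib.CharNormal.galIrr σ (F.c 6) = F.c 5) := by
  have key : ∀ i : Fin 10, i = 5 ∨ i = 6 →
      CfsgLib.CharNormal.galIrr σ (F.c i) = F.c 5 ∨ CfsgLib.CharNormal.galIrr σ (F.c i) = F.c 6 := by
    intro i hi
    obtain ⟨j, hj, hd⟩ := F.eq_of_deg (CfsgLib.CharNormal.galIrr σ (F.c i))
    have hd' : deg (CfsgLib.CharNormal.galIrr σ (F.c i)) = degTable i := by
      have h := deg_spec (CfsgLib.CharNormal.galIrr σ (F.c i))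
      rw [CfsgLib.CharNormal.galIrr_apply, deg_spec, map_natCast, F.deg_c i] at h
      exact_mod_cast h.symm
    rw [hd'] at hd
    rw [← hj]
    rcases hi with rfl | rfl <;> fin_cases j <;>
      first | exact Or.inl rfl | exact Or.inr rfl | simp [degTable] at hd
  have hne : F.c 5 ≠ F.c 6 := fun h => absurd (F.bij.1 h) (by decide)
  have hinj := (CfsgLib.CharNormal.galIrr (G := G) σ).injective
  rcases key 5 (Or.inl rfl) with h5 | h5 <;> rcases key 6 (Or.inr rfl) with h6 | h6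
  · exact absurd (hinj (h5.trans h6.symm)) hne
  · exact Or.inl ⟨h5, h6⟩
  · exact Or.inr ⟨h5, h6⟩
  · exact absurd (hinj (h5.trans h6.symm)) hne

omit [IsSimpleGroup G] in
/-- Characters of the degrees occurring once have rational integral values. -/
theorem int_value {i : Fin 10} (hi : i = 0 ∨ i = 4 ∨ i = 7 ∨ i = 8 ∨ i = 9) (g : G) :
    ∃ m : ℤ, (F.c i : G → ℂ) g = m := by
  have hn := (orderOf_pos g).ne'
  refine CfsgLib.CharNormal.exists_int_of_forall_coprime
    (CfsgLib.Char.isCharacter_of_isIrr (F.c i).2) g fun k hk => ?_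
  obtain ⟨σ, hσ⟩ := CfsgLib.CharNormal.exists_ringEquiv_root_pow hn hk
  have h1 := CfsgLib.CharNormal.ringEquiv_char_apply hσ
    (CfsgLib.Char.isCharacter_of_isIrr (F.c i).2) (dvd_refl (orderOf g))
  have h2 := CfsgLib.CharNormal.galIrr_apply σ (F.c i) g
  rw [F.galIrr_single σ hi] at h2
  -- the value is fixed, hence rational
  exact (h1.symm.trans h2.symm)

omit [IsSimpleGroup G] in
/-- Symmetric functions of the two characters of degree sixteen are rational integers. -/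
theorem int_pair (g : G) : ∃ Q R : ℤ,
    (F.c 5 : G → ℂ) g * (F.c 5 : G → ℂ) g + (F.c 6 : G → ℂ) g * (F.c 6 : G → ℂ) g = Q ∧
    (F.c 5 : G → ℂ) g * (F.c 6 : G → ℂ) g = R := by
  have hn := (orderOf_pos g).ne'
  have c5 := CfsgLib.Char.isCharacter_of_isIrr (F.c 5).2
  have c6 := CfsgLib.Char.isCharacter_of_isIrr (F.c 6).2
  have key : ∀ k : ℕ, k.Coprime (orderOf g) →
      (((F.c 5 : G → ℂ) (g ^ k) = (F.c 5 : G → ℂ) g ∧ (F.c 6 : G → ℂ) (g ^ k) = (F.c 6 : G → ℂ) g) ∨
        ((F.c 5 : G → ℂ) (g ^ k) = (F.c 6 : G → ℂ) g ∧ (F.c 6 : G → ℂ) (g ^ k) = (F.c 5 : G → ℂ) g)) := by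
    intro k hk
    obtain ⟨σ, hσ⟩ := CfsgLib.CharNormal.exists_ringEquiv_root_pow hn hk
    have h5 := (CfsgLib.CharNormal.galIrr_apply σ (F.c 5) g).trans
      (CfsgLib.CharNormal.ringEquiv_char_apply hσ c5 (dvd_refl (orderOf g)))
    have h6 := (CfsgLib.CharNormal.galIrr_apply σ (F.c 6) g).trans
      (CfsgLib.CharNormal.ringEquiv_char_apply hσ c6 (dvd_refl (orderOf g)))
    rcases F.galIrr_pair σ with ⟨e5, e6⟩ | ⟨e5, e6⟩ <;> rw [e5] at h5 <;> rw [e6] at h6
    · exact Or.inl ⟨h5.symm, h6.symm⟩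
    · exact Or.inr ⟨h5.symm, h6.symm⟩
  obtain ⟨Q, hQ⟩ := CfsgLib.CharNormal.exists_int_of_forall_coprime
    (CfsgLib.Char.isCharacter_add (CfsgLib.Char.isCharacter_mul c5 c5) (CfsgLib.Char.isCharacter_mul c6 c6)) g
    (fun k hk => by
      simp only [Pi.add_apply, Pi.mul_apply]
      rcases key k hk with ⟨e5, e6⟩ | ⟨e5, e6⟩ <;> rw [e5, e6]
      rw [add_comm])
  obtain ⟨R, hR⟩ := CfsgLib.CharNormal.exists_int_of_forall_coprime
    (CfsgLib.Char.isCharacter_mul c5 c6) g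
    (fun k hk => by
      simp only [Pi.mul_apply]
      rcases key k hk with ⟨e5, e6⟩ | ⟨e5, e6⟩ <;> rw [e5, e6]
      rw [mul_comm])
  exact ⟨Q, R, hQ, hR⟩

theorem c_zero (hG : Nat.card G = 7920) : F.c 0 = CfsgLib.Char.irrOne :=
  CfsgLib.SmallGroups.MElevenDegrees.eq_irrOne_of_deg_one
    (CfsgLib.SmallGroups.MElevenDegrees.not_comm_of_card hG) _ (by rw [F.deg_c]; rfl)

end Frame

variable (hG : Nat.card G = 7920)

include hG in
theorem card_centralizer_five {f : G} (hf : orderOf f = 5) :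
    Nat.card (centralizer ({f} : Set G)) = 5 ∧ ∀ u ∈ zpowers f, u ≠ 1 → IsConj f u := by
  haveI : Fact (Nat.Prime 5) := ⟨by norm_num⟩
  haveI : Fact (Nat.Prime 11) := ⟨by norm_num⟩
  obtain ⟨F⟩ := exists_frame hG
  have hz : IsPGroup 5 (zpowers f) :=
    IsPGroup.of_card (n := 1) (by rw [Nat.card_zpowers, hf, pow_one])
  obtain ⟨P, hP⟩ := hz.exists_le_sylow
  obtain ⟨hPc, hPC, hPe⟩ :=
    CfsgLib.SmallGroups.MElevenDegrees.five hG (F.c 1) (by rw [F.deg_c]; rfl) P
  have hPf : zpowers f = (P : Subgroup G) :=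
    Subgroup.eq_of_le_of_card_ge hP (by rw [hPc, Nat.card_zpowers, hf])
  have hCf : centralizer ({f} : Set G) = centralizer ((P : Subgroup G) : Set G) := by
    rw [← hPf, zpowers_eq_closure, centralizer_closure]
  have hC : Nat.card (centralizer ({f} : Set G)) = 5 := by rw [hCf]; exact hPC
  refine ⟨hC, fun u hu hu1 => ?_⟩
  refine CfsgLib.SmallGroups.PrimeRational.isConj_of_mem hf ?_ ?_ hu hu1
  · refine (Subgroup.eq_of_le_of_card_ge ?_ (by rw [hC, Nat.card_zpowers, hf])).symm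
    rw [zpowers_le, mem_centralizer_singleton_iff]
  · rw [hPf]
    have hle : centralizer ((P : Subgroup G) : Set G) ≤ normalizer ((P : Subgroup G) : Set G) :=
      fun x hx => Subgroup.centralizer_le_normalizer _ hx
    have h := Subgroup.relIndex_mul_relIndex ⊥ _ _ bot_le hle
    rw [Subgroup.relIndex_bot_left, Subgroup.relIndex_bot_left, hPe, hPC] at h
    omega

include hG in
/-- The values at an element of order five. -/
theorem five_values (F : Frame G) {f : G} (hf : orderOf f = 5) :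
    (F.c 0 : G → ℂ) f = 1 ∧ (F.c 1 : G → ℂ) f = 0 ∧ (F.c 2 : G → ℂ) f = 0 ∧ (F.c 3 : G → ℂ) f = 0 ∧
      (F.c 4 : G → ℂ) f = 1 ∧ (F.c 5 : G → ℂ) f = 1 ∧ (F.c 6 : G → ℂ) f = 1 ∧
      (F.c 7 : G → ℂ) f = -1 ∧ (F.c 8 : G → ℂ) f = 0 ∧ (F.c 9 : G → ℂ) f = 0 := by
  haveI : Fact (Nat.Prime 5) := ⟨by norm_num⟩
  obtain ⟨hC, hconj⟩ := card_centralizer_five hG hf
  choose w hw hwd using fun i =>
    CfsgLib.SmallGroups.PrimeRational.exists_int_value hf hconj (F.c i)
  simp only [F.deg_c] at hwd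
  have h := CfsgLib.Char.second_orthogonality f f
  rw [if_pos (IsConj.refl f), hC, F.sum_eq] at h
  simp only [hw, map_intCast] at h
  have hsq : w 0 * w 0 + w 1 * w 1 + w 2 * w 2 + w 3 * w 3 + w 4 * w 4 + w 5 * w 5 + w 6 * w 6 +
      w 7 * w 7 + w 8 * w 8 + w 9 * w 9 = 5 := by exact_mod_cast h
  have h0 := hwd 0
  have h1 := hwd 1
  have h2 := hwd 2
  have h3 := hwd 3
  have h4 := hwd 4
  have h5 := hwd 5
  have h6 := hwd 6
  have h7 := hwd 7
  have h8 := hwd 8
  have h9 := hwd 9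
  simp [degTable] at h0 h1 h2 h3 h4 h5 h6 h7 h8 h9
  have hb : ∀ z : ℤ, z * z ≤ 5 → -2 ≤ z ∧ z ≤ 2 := fun z hz => ⟨by nlinarith, by nlinarith⟩
  have b0 := hb (w 0) (by nlinarith)
  have b1 := hb (w 1) (by nlinarith)
  have b2 := hb (w 2) (by nlinarith)
  have b3 := hb (w 3) (by nlinarith)
  have b4 := hb (w 4) (by nlinarith)
  have b5 := hb (w 5) (by nlinarith)
  have b6 := hb (w 6) (by nlinarith)
  have b7 := hb (w 7) (by nlinarith)
  have b8 := hb (w 8) (by nlinarith)
  have b9 := hb (w 9) (by nlinarith)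
  have v0 : w 0 = 1 := by omega
  have v1 : w 1 = 0 := by omega
  have v2 : w 2 = 0 := by omega
  have v3 : w 3 = 0 := by omega
  have v4 : w 4 = 1 := by omega
  have v5 : w 5 = 1 := by omega
  have v6 : w 6 = 1 := by omega
  have v7 : w 7 = -1 := by omega
  have v8 : w 8 = 0 := by omega
  have v9 : w 9 = 0 := by omega
  simp only [hw, v0, v1, v2, v3, v4, v5, v6, v7, v8, v9]
  norm_num

end CfsgLib.MElevenUnique
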