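import Cfsg.Agent.Lib.MElevenUnique.Frame
import Cfsg.Agent.Lib.Char.ClassAlgebra
import Mathlib

/-!
The centralisers of elements of order two and three in a simple group of order 7920, from the
character values and the integrality of structure constants.
-/

set_option autoImplicit false

noncomputable section

namespace CfsgLib.MElevenUnique

open Subgroup Cfsg CfsgLib.InvolChar
open scoped ComplexConjugate
attribute [local instance] Classical.propDecidable

variable {G : Type*} [Group G] [Fintype G] [IsSimpleGroup G] (hG : Nat.card G = 7920)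

include hG in
theorem not_dvd_centralizer {g : G} (hg : g ≠ 1) (hg5 : ¬ 5 ∣ orderOf g) (hg11 : ¬ 11 ∣ orderOf g) :
    ¬ 5 ∣ Nat.card (centralizer ({g} : Set G)) ∧ ¬ 11 ∣ Nat.card (centralizer ({g} : Set G)) := by
  haveI : Fact (Nat.Prime 5) := ⟨by norm_num⟩
  haveI : Fact (Nat.Prime 11) := ⟨by norm_num⟩
  have hog : orderOf g ≠ 1 := fun h => hg (orderOf_eq_one_iff.mp h)
  constructor <;> intro h
  · obtain ⟨f, hf⟩ := exists_prime_orderOf_dvd_card' (G := centralizer ({g} : Set G)) 5 h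
    have hfG : orderOf (f : G) = 5 := by rw [Subgroup.orderOf_coe, hf]
    have hgf : g ∈ centralizer ({(f : G)} : Set G) :=
      mem_centralizer_singleton_iff.mpr (mem_centralizer_singleton_iff.mp f.2).symm
    have h5 := Subgroup.orderOf_dvd_natCard (s := centralizer ({(f : G)} : Set G)) hgf
    rw [(card_centralizer_five hG hfG).1] at h5
    rcases (Nat.dvd_prime (by norm_num)).mp h5 with e | e
    · exact hog e
    · exact hg5 (e ▸ dvd_refl _)
  · obtain ⟨f, hf⟩ := exists_prime_orderOf_dvd_card' (G := centralizer ({g} : Set G)) 11 h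
    have hfG : orderOf (f : G) = 11 := by rw [Subgroup.orderOf_coe, hf]
    have hz : IsPGroup 11 (zpowers (f : G)) :=
      IsPGroup.of_card (n := 1) (by rw [Nat.card_zpowers, hfG, pow_one])
    obtain ⟨P, hP⟩ := hz.exists_le_sylow
    obtain ⟨hPc, hPC, -⟩ := CfsgLib.SmallGroups.MElevenDegrees.eleven hG P
    have hPf : zpowers (f : G) = (P : Subgroup G) :=
      Subgroup.eq_of_le_of_card_ge hP (by rw [hPc, Nat.card_zpowers, hfG])
    have hgf : g ∈ centralizer ((P : Subgroup G) : Set G) := by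
      rw [← hPf, zpowers_eq_closure, centralizer_closure, mem_centralizer_singleton_iff]
      exact (mem_centralizer_singleton_iff.mp f.2).symm
    have h5 := Subgroup.orderOf_dvd_natCard (s := centralizer ((P : Subgroup G) : Set G)) hgf
    rw [hPC] at h5
    rcases (Nat.dvd_prime (by norm_num)).mp h5 with e | e
    · exact hog e
    · exact hg11 (e ▸ dvd_refl _)

include hG in
theorem centralizer_dvd {g : G} (hg : g ≠ 1) (hg5 : ¬ 5 ∣ orderOf g) (hg11 : ¬ 11 ∣ orderOf g) :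
    Nat.card (centralizer ({g} : Set G)) ∣ 144 := by
  obtain ⟨h5, h11⟩ := not_dvd_centralizer hG hg hg5 hg11
  set n := Nat.card (centralizer ({g} : Set G)) with hn
  have hd : n ∣ 144 * (5 * 11) := by
    have := (centralizer ({g} : Set G)).card_subgroup_dvd_card
    rw [hG] at this
    exact this.trans (by norm_num)
  refine (Nat.Coprime.dvd_of_dvd_mul_right ?_ hd)
  exact Nat.Coprime.mul_right
    ((Nat.Prime.coprime_iff_not_dvd (by norm_num)).mpr h5).symm
    ((Nat.Prime.coprime_iff_not_dvd (by norm_num)).mpr h11).symm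

theorem invol_search : ∀ n ∈ Nat.divisors 144, 2 ∣ n → ∀ v ∈ Finset.Icc (-12 : ℤ) 12,
    v % 4 = 3 → 15 + v * v + (v + 1) * (v + 1) ≤ (n : ℤ) →
    ((n : ℤ) * n) ∣ 180 * (43 - 2 * v + 3 * v * v) →
    (n = 48 ∧ v = 3) ∨ (n = 24 ∧ v = -1) := by
  decide +kernel

theorem sq_pos_of_ne {z : ℤ} (hz : z ≠ 0) : 1 ≤ z * z := by
  rcases lt_or_gt_of_ne hz with h | h <;> nlinarith

theorem four_le_sq {z : ℤ} (hz : 2 ≤ z ∨ z ≤ -2) : 4 ≤ z * z := by
  rcases hz with h | h <;> nlinarith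

theorem bound_of_sq {z b : ℤ} (hb : 0 ≤ b) (hz : z * z ≤ b * b) : -b ≤ z ∧ z ≤ b :=
  ⟨by nlinarith, by nlinarith⟩

/-- The arithmetic for the involutions. -/
theorem invol_arith (n : ℕ) (a b c v w y : ℤ) (hn : n ∣ 144) (hn2 : 2 ∣ n)
    (ha : (4 : ℤ) ∣ 10 - a) (hb : (4 : ℤ) ∣ 10 - b) (hc : (4 : ℤ) ∣ 10 - c) (hv : (4 : ℤ) ∣ 11 - v)
    (hw : (4 : ℤ) ∣ 45 - w) (hy : (4 : ℤ) ∣ 55 - y)
    (hdeg : 1 + 10 * a + 10 * b + 10 * c + 11 * v + 44 * (1 + v) + 45 * w + 55 * y = 0)
    (hsq : 1 + a * a + b * b + c * c + v * v + (1 + v) * (1 + v) + w * w + y * y = (n : ℤ))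
    (hk : ((n : ℤ) * n) ∣ 180 * (43 - 2 * v + 3 * v * v)) : n = 48 ∧ v = 3 := by
  have qa := four_le_sq (z := a) (by omega)
  have qb := four_le_sq (z := b) (by omega)
  have qc := four_le_sq (z := c) (by omega)
  have qw := sq_pos_of_ne (z := w) (by omega)
  have qy := sq_pos_of_ne (z := y) (by omega)
  have hn144 : (n : ℤ) ≤ 144 := by exact_mod_cast Nat.le_of_dvd (by norm_num) hn
  have hlow : 15 + v * v + (v + 1) * (v + 1) ≤ (n : ℤ) := by linarith
  have hvb := bound_of_sq (z := v) (b := 12) (by norm_num)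
    (by linarith [mul_self_nonneg (v + 1)])
  rcases invol_search n (Nat.mem_divisors.mpr ⟨hn, by norm_num⟩) hn2 v (Finset.mem_Icc.mpr hvb)
    (by omega) hlow hk with h | ⟨hn', h'⟩
  · exact h
  exfalso
  subst hn' h'
  norm_num at hsq hdeg
  obtain ⟨la, ua⟩ := bound_of_sq (z := a) (b := 5) (by norm_num) (by linarith)
  obtain ⟨lb, ub⟩ := bound_of_sq (z := b) (b := 5) (by norm_num) (by linarith)
  obtain ⟨lc, uc⟩ := bound_of_sq (z := c) (b := 5) (by norm_num) (by linarith)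
  obtain ⟨lw, uw⟩ := bound_of_sq (z := w) (b := 4) (by norm_num) (by linarith)
  obtain ⟨ly, uy⟩ := bound_of_sq (z := y) (b := 4) (by norm_num) (by linarith)
  have e1 : a = 2 ∨ a = -2 := by omega
  have e2 : b = 2 ∨ b = -2 := by omega
  have e3 : c = 2 ∨ c = -2 := by omega
  have e8 : w = 1 ∨ w = -3 := by omega
  have e9 : y = -1 ∨ y = 3 := by omega
  rcases e1 with rfl | rfl <;> rcases e2 with rfl | rfl <;> rcases e3 with rfl | rfl <;>
    rcases e8 with rfl | rfl <;> rcases e9 with rfl | rfl <;> omega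

set_option maxHeartbeats 1000000 in
include hG in
/-- The centraliser of an involution and some of its character values. -/
theorem invol (F : Frame G) {t : G} (ht : orderOf t = 2) :
    Nat.card (centralizer ({t} : Set G)) = 48 ∧ (F.c 4 : G → ℂ) t = 3 ∧ (F.c 5 : G → ℂ) t = 0 ∧
      (F.c 6 : G → ℂ) t = 0 ∧ (F.c 7 : G → ℂ) t = 4 := by
  classical
  haveI : Fact (Nat.Prime 5) := ⟨by norm_num⟩
  have htt : t * t = 1 := by rw [← sq, ← ht]; exact pow_orderOf_eq_one t
  have ht1 : t ≠ 1 := fun h => by rw [h, orderOf_one] at ht; norm_num at ht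
  obtain ⟨f, hf⟩ := exists_prime_orderOf_dvd_card' (G := G) 5 (hG ▸ by norm_num)
  have hperf : commutator G = ⊤ := CfsgLib.SmallGroups.commutator_eq_top_of_simple
    (CfsgLib.SmallGroups.MElevenDegrees.not_comm_of_card hG)
  set n := Nat.card (centralizer ({t} : Set G)) with hn
  have hndvd : n ∣ 144 := centralizer_dvd hG ht1 (by rw [ht]; norm_num) (by rw [ht]; norm_num)
  have hn2 : 2 ∣ n := by
    have := Subgroup.orderOf_dvd_natCard (s := centralizer ({t} : Set G))
      (mem_centralizer_singleton_iff.mpr rfl : t ∈ centralizer ({t} : Set G))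
    rwa [ht] at this
  set v : Fin 10 → ℤ := fun i => intVal (F.c i) htt with hv
  have hvs : ∀ i, (F.c i : G → ℂ) t = (v i : ℂ) := fun i => intVal_spec (F.c i) htt
  have hv0 : v 0 = 1 := by
    have h := hvs 0
    rw [F.c_zero hG, CfsgLib.Char.irrOne_apply] at h
    exact_mod_cast h.symm
  have h4 : ∀ i, (4 : ℤ) ∣ (degTable i : ℤ) - v i := fun i => by
    rw [← F.deg_c i]
    exact CfsgLib.SmallGroups.Order459648.four_dvd_sub hperf (F.c i) htt (hvs i)
  have hz16 : ∀ i, i = 5 ∨ i = 6 → v i = 0 := by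
    intro i hi
    have h := CfsgLib.Char.vanish_of_defect_zero (F.c i).2 (p := 2) (n := 4) (d := 16) (by norm_num)
      (by rw [hG]; norm_num) (by rw [hG]; norm_num)
      (by rw [deg_spec, F.deg_c]; rcases hi with rfl | rfl <;> rfl) (by norm_num)
      (x := t) (by rw [ht])
    rw [hvs i] at h
    exact_mod_cast h
  have v5 := hz16 5 (Or.inl rfl)
  have v6 := hz16 6 (Or.inr rfl)
  obtain ⟨g0, g1, g2, g3, g4, g5, g6, g7, g8, g9⟩ := five_values hG F hf
  obtain ⟨d0, d1, d2, d3, d4, d5, d6, d7, d8, d9⟩ := degTable_eval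
  have horth : v 0 * 1 + v 4 * 1 + v 5 * 1 + v 6 * 1 + v 7 * (-1) = 0 := by
    have h := CfsgLib.Char.second_orthogonality t f
    rw [if_neg (fun hc => by
      have := isConj_iff.mp hc
      obtain ⟨g, hg⟩ := this
      have e : orderOf (g * t * g⁻¹) = orderOf t := orderOf_injective (MulAut.conj g).toMonoidHom
        (MulAut.conj g).injective t
      rw [hg, hf, ht] at e
      norm_num at e), F.sum_eq] at h
    simp only [hvs, g0, g1, g2, g3, g4, g5, g6, g7, g8, g9, map_one, map_zero, map_neg, mul_zero, add_zero] at h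
    norm_num at h
    exact_mod_cast (by push_cast; linear_combination h :
      ((v 0 * 1 + v 4 * 1 + v 5 * 1 + v 6 * 1 + v 7 * (-1) : ℤ) : ℂ) = ((0 : ℤ) : ℂ))
  have hdeg : (1 : ℤ) * v 0 + 10 * v 1 + 10 * v 2 + 10 * v 3 + 11 * v 4 + 16 * v 5 + 16 * v 6 +
      44 * v 7 + 45 * v 8 + 55 * v 9 = 0 := by
    have h := sum_deg_mul_intVal htt ht1
    rw [F.sum_eq] at h
    simp only [F.deg_c, d0, d1, d2, d3, d4, d5, d6, d7, d8, d9] at h
    simpa [hv] using h
  have hsq : v 0 * v 0 + v 1 * v 1 + v 2 * v 2 + v 3 * v 3 + v 4 * v 4 + v 5 * v 5 + v 6 * v 6 +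
      v 7 * v 7 + v 8 * v 8 + v 9 * v 9 = (n : ℤ) := by
    have h := sum_intVal_sq htt
    rw [F.sum_eq] at h
    simpa [hv, sq, hn] using h
  have hv7 : v 7 = 1 + v 4 := by omega
  have hk : ((n : ℤ) * n) ∣ 180 * (43 - 2 * v 4 + 3 * v 4 * v 4) := by
    have hfi : ∀ χ : IrrCharacter G, ∃ m : ℤ, (χ : G → ℂ) f = m := fun χ => by
      obtain ⟨i, rfl⟩ := F.bij.2 χ
      obtain ⟨m, hm, -⟩ := CfsgLib.SmallGroups.PrimeRational.exists_int_value hf
        (card_centralizer_five hG hf).2 (F.c i)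
      exact ⟨m, hm⟩
    choose w hw using hfi
    have hwe : ∀ (i : Fin 10) (z : ℤ), (F.c i : G → ℂ) f = (z : ℂ) → w (F.c i) = z := fun i z hz => by
      exact_mod_cast (hw (F.c i)).symm.trans hz
    have h := pairs_eq_gen t t f (fun χ => intVal χ htt) (fun χ => intVal χ htt) w
      (fun χ => intVal_spec χ htt) (fun χ => intVal_spec χ htt) hw
    rw [F.sum_eq, ← hn, hG] at h
    rw [hwe 0 1 (by rw [g0]; norm_num), hwe 1 0 (by rw [g1]; norm_num), hwe 2 0 (by rw [g2]; norm_num),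
      hwe 3 0 (by rw [g3]; norm_num), hwe 4 1 (by rw [g4]; norm_num), hwe 5 1 (by rw [g5]; norm_num),
      hwe 6 1 (by rw [g6]; norm_num), hwe 7 (-1) (by rw [g7]; norm_num),
      hwe 8 0 (by rw [g8]; norm_num), hwe 9 0 (by rw [g9]; norm_num)] at h
    simp only [F.deg_c, d0, d1, d2, d3, d4, d5, d6, d7, d8, d9] at h
    set K := Nat.card {p : G × G // IsConj t p.1 ∧ IsConj t p.2 ∧ p.1 * p.2 = f}
    have hv0' : intVal (F.c 0) htt = 1 := hv0
    have hv5' : intVal (F.c 5) htt = 0 := v5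
    have hv6' : intVal (F.c 6) htt = 0 := v6
    have hv7' : intVal (F.c 7) htt = 1 + v 4 := hv7
    have hv4' : intVal (F.c 4) htt = v 4 := rfl
    rw [hv0', hv4', hv5', hv6', hv7'] at h
    norm_num at h
    refine ⟨K, ?_⟩
    have h' : ((n : ℚ) * n * K) = 180 * (43 - 2 * (v 4 : ℚ) + 3 * v 4 * v 4) := by
      linear_combination h
    exact_mod_cast h'.symm
  have c1 := h4 1
  have c2 := h4 2
  have c3 := h4 3
  have c4 := h4 4
  have c8 := h4 8
  have c9 := h4 9
  rw [d1] at c1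
  rw [d2] at c2
  rw [d3] at c3
  rw [d4] at c4
  rw [d8] at c8
  rw [d9] at c9
  rw [hv0, v5, v6, hv7] at hsq hdeg
  obtain ⟨hn', h'⟩ := invol_arith n (v 1) (v 2) (v 3) (v 4) (v 8) (v 9) hndvd hn2
    (by exact_mod_cast c1) (by exact_mod_cast c2) (by exact_mod_cast c3) (by exact_mod_cast c4)
    (by exact_mod_cast c8) (by exact_mod_cast c9) (by linear_combination hdeg)
    (by linear_combination hsq) hk
  refine ⟨hn', ?_, ?_, ?_, ?_⟩ <;> rw [hvs]
  · rw [h']; norm_num
  · rw [v5]; norm_num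
  · rw [v6]; norm_num
  · rw [hv7, h']; norm_num

theorem three_bounds {n : ℕ} (u w m : ℤ) (hn : (n : ℤ) ≤ 144)
    (hm : m = (n : ℤ) - 1 - u * u - w * w) (hP : (w - 1 - u) * (w - 1 - u) ≤ 2 * m) :
    u ∈ Finset.Icc (-12 : ℤ) 12 ∧ w ∈ Finset.Icc (-12 : ℤ) 12 ∧ u * u + w * w < (n : ℤ) := by
  have h0 := mul_self_nonneg (w - 1 - u)
  have hlt : u * u + w * w < (n : ℤ) := by linarith
  exact ⟨Finset.mem_Icc.mpr (bound_of_sq (by norm_num) (by linarith [mul_self_nonneg w])),
    Finset.mem_Icc.mpr (bound_of_sq (by norm_num) (by linarith [mul_self_nonneg u])), hlt⟩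

theorem three_search : ∀ n ∈ ({9, 18, 36, 72, 144} : Finset ℕ), ∀ u ∈ Finset.Icc (-12 : ℤ) 12,
    u % 3 = 2 → ∀ w ∈ Finset.Icc (-12 : ℤ) 12, w % 3 = 2 → u * u + w * w < (n : ℤ) →
    (n : ℤ) ∣ 15 * (11 + 3 * u - w) →
    (w - 1 - u) * (w - 1 - u) ≤ 2 * ((n : ℤ) - 1 - u * u - w * w) →
    ∀ Q ∈ Finset.Icc (-((n : ℤ) - 1 - u * u - w * w)) ((n : ℤ) - 1 - u * u - w * w),
      ((w - 1 - u) * (w - 1 - u) - Q) % 2 = 0 →
      ((n : ℤ) * n) ∣ 180 * (44 + 4 * u * u - w * w) + 495 * Q →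
      (n = 18 ∧ u = 2) ∨ (n = 9 ∧ u = -1) := by
  decide +kernel

set_option maxHeartbeats 1000000 in
include hG in
/-- An element of order three: its centraliser has order nine or eighteen, and the value of the
character of degree eleven tells which. -/
theorem three (F : Frame G) {x : G} (hx : orderOf x = 3)
    (h9 : 9 ∣ Nat.card (centralizer ({x} : Set G))) :
    (Nat.card (centralizer ({x} : Set G)) = 18 ∧ (F.c 4 : G → ℂ) x = 2) ∨
      (Nat.card (centralizer ({x} : Set G)) = 9 ∧ (F.c 4 : G → ℂ) x = -1) := by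
  classical
  haveI : Fact (Nat.Prime 5) := ⟨by norm_num⟩
  haveI : Fact (Nat.Prime 2) := ⟨Nat.prime_two⟩
  haveI : Fact (Nat.Prime 3) := ⟨Nat.prime_three⟩
  obtain ⟨f, hf⟩ := exists_prime_orderOf_dvd_card' (G := G) 5 (hG ▸ by norm_num)
  obtain ⟨t, ht⟩ := exists_prime_orderOf_dvd_card' (G := G) 2 (hG ▸ by norm_num)
  obtain ⟨hn48, t4, t5, t6, t7⟩ := invol hG F ht
  have htt : t * t = 1 := by rw [← sq, ← ht]; exact pow_orderOf_eq_one t
  have hx1 : x ≠ 1 := fun h => by rw [h, orderOf_one] at hx; norm_num at hx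
  set n := Nat.card (centralizer ({x} : Set G)) with hn
  have hndvd : n ∣ 144 := centralizer_dvd hG hx1 (by rw [hx]; norm_num) (by rw [hx]; norm_num)
  have hnmem : n ∈ ({9, 18, 36, 72, 144} : Finset ℕ) := by
    have key : ∀ k ∈ Nat.divisors 144, 9 ∣ k → k ∈ ({9, 18, 36, 72, 144} : Finset ℕ) := by decide +kernel
    exact key n (Nat.mem_divisors.mpr ⟨hndvd, by norm_num⟩) h9
  obtain ⟨g0, g1, g2, g3, g4, g5, g6, g7, g8, g9⟩ := five_values hG F hf
  obtain ⟨d0, d1, d2, d3, d4, d5, d6, d7, d8, d9⟩ := degTable_eval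
  have hne : ∀ {a b : G}, orderOf a ≠ orderOf b → ¬ IsConj a b := fun hab hc => by
    obtain ⟨g, hg⟩ := isConj_iff.mp hc
    exact hab (hg ▸ (orderOf_injective (MulAut.conj g).toMonoidHom (MulAut.conj g).injective _).symm)
  obtain ⟨u, hu⟩ := F.int_value (i := 4) (Or.inr (Or.inl rfl)) x
  obtain ⟨w, hw⟩ := F.int_value (i := 7) (Or.inr (Or.inr (Or.inl rfl))) x
  obtain ⟨Q, R, hQ, hR⟩ := F.int_pair x
  have h0 : ∀ g : G, (F.c 0 : G → ℂ) g = 1 := fun g => by
    rw [F.c_zero hG, CfsgLib.Char.irrOne_apply]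
  have h45 : (F.c 8 : G → ℂ) x = 0 :=
    CfsgLib.Char.vanish_of_defect_zero (F.c 8).2 (p := 3) (n := 2) (d := 45) (by norm_num)
      (by rw [hG]; norm_num) (by rw [hG]; norm_num) (by rw [deg_spec, F.deg_c]; rfl)
      (by norm_num) (by rw [hx])
  have hsum : (1 : ℂ) + u + ((F.c 5 : G → ℂ) x + (F.c 6 : G → ℂ) x) - w = 0 := by
    have h := CfsgLib.Char.second_orthogonality x f
    rw [if_neg (hne (by rw [hx, hf]; norm_num)), F.sum_eq] at h
    simp only [g0, g1, g2, g3, g4, g5, g6, g7, g8, g9, map_one, map_zero, map_neg, mul_zero,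
      add_zero, mul_one, h0, hu, hw] at h
    linear_combination h
  have hcongr : ∀ i, (∀ g : G, ∃ m : ℤ, (F.c i : G → ℂ) g = m) → ∀ m : ℤ,
      (F.c i : G → ℂ) x = m → (3 : ℤ) ∣ (degTable i : ℤ) + 2 * m := by
    intro i hint m hm
    obtain ⟨z, hz⟩ := CfsgLib.Char.classInner_gen_int
      (CfsgLib.Char.isGen_res (zpowers x) (CfsgLib.Char.isGen_of_irr (F.c i).2))
      (CfsgLib.Char.isGen_of_irr (CfsgLib.Char.isIrrCharacter_one (G := zpowers x)))
    rw [CfsgLib.Char.classInner_def, Nat.card_zpowers, hx] at hz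
    simp only [map_one, mul_one] at hz
    rw [inv_mul_eq_iff_eq_mul₀ (by norm_num),
      ← Finset.add_sum_erase _ _ (Finset.mem_univ (1 : zpowers x))] at hz
    have hval : ∀ y ∈ (Finset.univ : Finset (zpowers x)).erase 1, (F.c i : G → ℂ) y = m := by
      intro y hy
      have hy1 := Finset.ne_of_mem_erase hy
      obtain ⟨k, hk⟩ := Subgroup.mem_zpowers_iff.mp y.2
      have hk3 : (y : G) = x ^ (k % 3) := by
        rw [← hk, ← zpow_mod_orderOf x k, hx]; rfl
      have : k % 3 = 1 ∨ k % 3 = 2 := by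
        have : k % 3 ≠ 0 := fun h => hy1 (Subtype.ext (by rw [hk3, h, zpow_zero]; rfl))
        omega
      rcases this with e | e <;> rw [hk3, e]
      · rw [zpow_one, hm]
      · have : x ^ (2 : ℤ) = x⁻¹ := by
          refine (inv_eq_of_mul_eq_one_left ?_).symm
          rw [zpow_ofNat, ← pow_succ, show (2 + 1 : ℕ) = orderOf x from hx.symm, pow_orderOf_eq_one]
        rw [this, CfsgLib.Char.char_inv (CfsgLib.Char.isCharacter_of_isIrr (F.c i).2), hm, map_intCast]
    rw [Finset.sum_congr rfl hval, Finset.sum_const, Finset.card_erase_of_mem (Finset.mem_univ _),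
      Finset.card_univ, ← Nat.card_eq_fintype_card, Nat.card_zpowers, hx, OneMemClass.coe_one,
      deg_spec, F.deg_c] at hz
    refine ⟨z, ?_⟩
    have h' : ((degTable i : ℤ) + 2 * m : ℂ) = ((3 * z : ℤ) : ℂ) := by
      push_cast at hz ⊢
      simpa using hz
    exact_mod_cast h'
  have cu := hcongr 4 (fun g => F.int_value (Or.inr (Or.inl rfl)) g) u hu
  have cw := hcongr 7 (fun g => F.int_value (Or.inr (Or.inr (Or.inl rfl))) g) w hw
  rw [d4] at cu
  rw [d7] at cw
  set p := (F.c 5 : G → ℂ) x with hp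
  set q := (F.c 6 : G → ℂ) x with hq
  set S := Complex.normSq p + Complex.normSq q with hS
  have hnorm : 1 + (u : ℝ) * u + (w : ℝ) * w + S ≤ n := by
    have h := CfsgLib.Char.second_orthogonality x x
    rw [if_pos (IsConj.refl x), ← hn, F.sum_eq] at h
    simp only [Complex.mul_conj, h0, hu, hw, h45] at h
    have h' := congrArg Complex.re h
    simp [← hp, ← hq] at h'
    have := Complex.normSq_nonneg ((F.c 1 : G → ℂ) x)
    have := Complex.normSq_nonneg ((F.c 2 : G → ℂ) x)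
    have := Complex.normSq_nonneg ((F.c 3 : G → ℂ) x)
    have := Complex.normSq_nonneg ((F.c 9 : G → ℂ) x)
    rw [hS]
    nlinarith
  have hP : p + q = ((w - 1 - u : ℤ) : ℂ) := by push_cast; linear_combination hsum
  have hpre : p.re + q.re = ((w - 1 - u : ℤ) : ℝ) := by
    have := congrArg Complex.re hP
    rwa [Complex.add_re, Complex.intCast_re] at this
  have hQre : p.re * p.re - p.im * p.im + (q.re * q.re - q.im * q.im) = (Q : ℝ) := by
    have := congrArg Complex.re hQ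
    simpa [← hp, ← hq] using this
  have hS' : S = p.re * p.re + p.im * p.im + (q.re * q.re + q.im * q.im) := by
    rw [hS, Complex.normSq_apply, Complex.normSq_apply]
  set m := (n : ℤ) - 1 - u * u - w * w with hm
  have hmR : S ≤ (m : ℝ) := by rw [hm]; push_cast; linarith
  have hP2 : (w - 1 - u) * (w - 1 - u) ≤ 2 * m := by
    have : ((w - 1 - u : ℤ) : ℝ) * ((w - 1 - u : ℤ) : ℝ) ≤ 2 * (m : ℝ) := by
      rw [← hpre]
      nlinarith [sq_nonneg (p.re - q.re), mul_self_nonneg p.im, mul_self_nonneg q.im]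
    exact_mod_cast this
  have hQb : -m ≤ Q ∧ Q ≤ m := by
    have h1 : -(m : ℝ) ≤ (Q : ℝ) := by
      nlinarith [mul_self_nonneg p.re, mul_self_nonneg q.re]
    have h2 : (Q : ℝ) ≤ (m : ℝ) := by
      nlinarith [mul_self_nonneg p.im, mul_self_nonneg q.im]
    exact ⟨by exact_mod_cast h1, by exact_mod_cast h2⟩
  have hpar : (w - 1 - u) * (w - 1 - u) - Q = 2 * R := by
    have : (((w - 1 - u) * (w - 1 - u) - Q : ℤ) : ℂ) = ((2 * R : ℤ) : ℂ) := by
      push_cast
      rw [← hQ, ← hR]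
      linear_combination (-(p + q) - ((w : ℂ) - 1 - u)) * hsum
    exact_mod_cast this
  have eG : (Nat.card G : ℂ) = 7920 := by rw [hG]; norm_num
  have hcls : ∀ g : G, ((Nat.card {y : G // IsConj g y} : ℕ) : ℂ) *
      (Nat.card (centralizer ({g} : Set G)) : ℂ) = 7920 := fun g => by
    exact_mod_cast (CfsgLib.Invol.card_conjugates_mul g).trans hG
  have hk1 : (n : ℤ) ∣ 15 * (11 + 3 * u - w) := by
    have h := CfsgLib.Char.card_classProduct_eq x t f
    set K := Nat.card {p : G × G // IsConj x p.1 ∧ IsConj t p.2 ∧ p.1 * p.2 = f}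
    simp only [F.sum_eq, g0, g1, g2, g3, g4, g5, g6, g7, g8, g9, map_one, map_zero, map_neg, h0,
      hu, hw, deg_spec, F.deg_c, d0, d1, d2, d3, d4, d5, d6, d7, d8, d9, t4, t5, t6, t7, eG] at h
    have ex := hcls x
    have et := hcls t
    rw [← hn] at ex
    rw [hn48] at et
    set a := ((Nat.card {y : G // IsConj x y} : ℕ) : ℂ)
    set b := ((Nat.card {y : G // IsConj t y} : ℕ) : ℂ)
    norm_num [-isConj_iff, -Nat.card_eq_fintype_card] at h et
    refine ⟨K, ?_⟩
    have h' : (15 * (11 + 3 * (u : ℂ) - w)) = (n : ℂ) * (K : ℂ) := by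
      rw [h]
      push_cast at et
      linear_combination (-(165 : ℂ) / 7920 * (1 + 3 * u / 11 - w / 11)) * ex -
        ((n : ℂ) * a / 7920 / 48 * (1 + 3 * u / 11 - w / 11)) * et
    exact_mod_cast h'
  have hk2 : ((n : ℤ) * n) ∣ 180 * (44 + 4 * u * u - w * w) + 495 * Q := by
    have h := CfsgLib.Char.card_classProduct_eq x x f
    set K := Nat.card {p : G × G // IsConj x p.1 ∧ IsConj x p.2 ∧ p.1 * p.2 = f}
    simp only [F.sum_eq, g0, g1, g2, g3, g4, g5, g6, g7, g8, g9, map_one, map_zero, map_neg, h0,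
      hu, hw, deg_spec, F.deg_c, d0, d1, d2, d3, d4, d5, d6, d7, d8, d9, eG] at h
    have ex := hcls x
    rw [← hn] at ex
    set c := ((Nat.card {y : G // IsConj x y} : ℕ) : ℂ)
    norm_num [-isConj_iff, -Nat.card_eq_fintype_card, ← hp, ← hq] at h
    refine ⟨K, ?_⟩
    have hQ' : p * p + q * q = (Q : ℂ) := hQ
    have h' : (180 * (44 + 4 * (u : ℂ) * u - w * w) + 495 * Q) = (n : ℂ) * n * (K : ℂ) := by
      rw [h, ← hQ']
      linear_combination
        (-((c * n + 7920) / 7920) * (1 + (u : ℂ) * u / 11 + (p * p + q * q) / 16 - w * w / 44)) * ex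
    exact_mod_cast h'
  obtain ⟨hru, hrw, hlt⟩ := three_bounds (n := n) u w m
    (by exact_mod_cast Nat.le_of_dvd (by norm_num) hndvd) hm hP2
  rcases three_search n hnmem u hru (by clear * - cu; omega) w hrw (by clear * - cw; omega) hlt hk1 hP2 Q
    (Finset.mem_Icc.mpr hQb) (by rw [hpar]; clear * -; omega) hk2 with ⟨e1, e2⟩ | ⟨e1, e2⟩
  · exact Or.inl ⟨e1, by rw [hu, e2]; norm_num⟩
  · exact Or.inr ⟨e1, by rw [hu, e2]; norm_num⟩

end CfsgLib.MElevenUnique
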